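import Groth.Agent.ImgTorusLib.Quot
import Groth.Agent.RedRankLib.CommRel
import Groth.Agent.RedCharZeroLib.TorusSplit
import Groth.Prelude.Def_ActBC

/-!
The image of a torus under a homomorphism is a torus.
-/

set_option autoImplicit false
set_option linter.style.haveILetI false
set_option linter.unusedSectionVars false
set_option backward.isDefEq.respectTransparency false
set_option maxHeartbeats 1600000
set_option synthInstance.maxHeartbeats 400000

noncomputable section

universe u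

open CategoryTheory CategoryTheory.Limits MonoidalCategory CartesianMonoidalCategory AlgebraicGeometry
open scoped MonObj

namespace Groth.Agent.ImgTorus

open MultSubLib (dd)
open MonoLocus (kob kin)

variable {S : Scheme.{u}}

/-- On a split piece, near each point the kernel is that of the dual of an inclusion of characters. -/
theorem exists_nbhd_bc {T G : Over S} [GrpObj T] [GrpObj G] [IsSeparated G.hom]
    [LocallyOfFinitePresentation G.hom] (v : T ⟶ G) [IsMonHom v] {U : Scheme.{u}} (g : U ⟶ S) {M : Type}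
    [AddCommGroup M] [AddGroup.FG M] (e : Grp.mk (Red.bc g T) ≅ Grp.mk (Red.DS U M)) (z : U) :
    ∃ (U₁ : U.Opens) (P : AddSubgroup M) (_ : z ∈ U₁)
      (w : Red.bc U₁.ι (Red.DS U M) ≅ Red.bc (U₁.ι ≫ g) T) (_ : IsMonHom w.hom),
      ∀ (Y : Over (U₁ : Scheme.{u})) (x : Y ⟶ Red.bc U₁.ι (Red.DS U M)),
        (x ≫ w.hom) ≫ (Over.pullback (U₁.ι ≫ g)).map v = 1 ↔
          x ≫ (Over.pullback U₁.ι).map (dd U P.subtype.toMultiplicative) = 1 := by
  let e₁ : Red.bc g T ≅ Red.DS U M := (Grp.forget _).mapIso e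
  haveI : IsMonHom e₁.hom := e.hom.hom.isMonHom_hom
  haveI : IsMonHom e₁.inv := e.inv.hom.isMonHom_hom
  haveI : IsMonHom (M := Red.bc g T) (N := Red.bc g G) ((Over.pullback g).map v) := DiagRep.isMonHom_bc_map g v
  haveI : IsSeparated (Red.bc g G).hom := inferInstanceAs (IsSeparated (pullback.snd G.hom g))
  haveI : LocallyOfFinitePresentation (Red.bc g G).hom :=
    inferInstanceAs (LocallyOfFinitePresentation (pullback.snd G.hom g))
  let vU : Red.DS U M ⟶ Red.bc g G := e₁.inv ≫ (Over.pullback g).map v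
  haveI : IsMonHom vU := inferInstanceAs (IsMonHom (e₁.inv ≫ (Over.pullback g).map v))
  obtain ⟨U₁, P, hz, hP⟩ := exists_exact_nbhd vU z
  let A : Red.bc U₁.ι (Red.DS U M) ≅ Red.bc U₁.ι (Red.bc g T) := (Over.pullback U₁.ι).mapIso e₁.symm
  haveI : IsMonHom A.hom := DiagRep.isMonHom_bc_map U₁.ι e₁.inv
  let w : Red.bc U₁.ι (Red.DS U M) ≅ Red.bc (U₁.ι ≫ g) T := A ≪≫ ActBC.bcCompIso U₁.ι g T rfl
  haveI : IsMonHom w.hom := inferInstanceAs (IsMonHom (A.hom ≫ (ActBC.bcCompIso U₁.ι g T rfl).hom))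
  refine ⟨U₁, P, hz, w, ‹_›, fun Y x => ?_⟩
  have hnat : w.hom ≫ (Over.pullback (U₁.ι ≫ g)).map v =
      (Over.pullback U₁.ι).map vU ≫ (ActBC.bcCompIso U₁.ι g G rfl).hom := by
    show ((Over.pullback U₁.ι).map e₁.inv ≫ _) ≫ _ = _
    rw [Category.assoc, ← ActBC.bcCompIso_hom_naturality, ← Category.assoc, ← Functor.map_comp]
  rw [Category.assoc, hnat, ← Category.assoc, bcPt_comp_eq_one_iff]
  rw [← hP _ Y.hom rfl, ← bcPt_comp_eq_one_iff]
  haveI : Mono (ActBC.bcCompIso U₁.ι g G rfl).hom := inferInstance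
  constructor
  · intro h
    rwa [← MonObj.one_comp (ActBC.bcCompIso U₁.ι g G rfl).hom, cancel_mono] at h
  · intro h
    rw [h, MonObj.one_comp]

theorem fppf_bc_dd {U U₁ : Scheme.{u}} (j : U₁ ⟶ U) {M : Type} [AddCommGroup M] [AddGroup.FG M] (P : AddSubgroup M) :
    Flat ((Over.pullback j).map (dd U P.subtype.toMultiplicative)).left ∧
      LocallyOfFinitePresentation ((Over.pullback j).map (dd U P.subtype.toMultiplicative)).left ∧
      Surjective ((Over.pullback j).map (dd U P.subtype.toMultiplicative)).left := by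
  haveI := fg_addSubgroup P
  obtain ⟨f1, f2, f3⟩ := fppf_dd (S := U) P.subtype.toMultiplicative
    (show Function.Injective P.subtype from Subtype.val_injective)
  exact ⟨MorphismProperty.overPullbackMap (P := @Flat) j _ f1,
    MorphismProperty.overPullbackMap (P := @LocallyOfFinitePresentation) j _ f2,
    MorphismProperty.overPullbackMap (P := @Surjective) j _ f3⟩

variable {T G : Over S} [GrpObj T] [GrpObj G]

theorem flat_ker [IsSeparated G.hom] [LocallyOfFinitePresentation G.hom] (hT : Red.IsTorus T) (v : T ⟶ G)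
    [IsMonHom v] : Flat (kob v).hom := by
  obtain ⟨S', f, hflat, hsurj, -, hloc⟩ := hT
  haveI := hflat
  haveI := hsurj
  have hpiece : ∀ z : S', ∃ V : S'.Opens, z ∈ V ∧ ∀ W : S'.Opens, W = V → Flat (pullback.snd (kob v).hom (W.ι ≫ f)) := by
    intro z
    obtain ⟨U, hzU, r, ⟨e⟩⟩ := hloc z
    haveI : AddGroup.FG (Fin r → ℤ) := Module.Finite.iff_addGroup_fg.1 inferInstance
    obtain ⟨U₁, P, hz, w, hw, hwP⟩ := exists_nbhd_bc v (U.ι ≫ f) e ⟨z, hzU⟩
    haveI := hw
    haveI : IsMonHom (M := Red.bc U₁.ι (Red.DS U (Fin r → ℤ))) (N := Red.bc U₁.ι (Red.DS U P))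
        ((Over.pullback U₁.ι).map (dd (U : Scheme.{u}) P.subtype.toMultiplicative)) := DiagRep.isMonHom_bc_map _ _
    obtain ⟨f1, -, -⟩ := fppf_bc_dd U₁.ι P
    haveI := f1
    have h := flat_bc_kob v (U₁.ι ≫ U.ι ≫ f) w _ hwP
    refine ⟨U.ι ''ᵁ U₁, ⟨⟨z, hzU⟩, hz, rfl⟩, fun W hW => ?_⟩
    subst hW
    have hi : (U.ι.isoImage U₁).inv ≫ U₁.ι ≫ U.ι = (U.ι ''ᵁ U₁).ι := by
      rw [Scheme.Hom.isoImage_inv_ι]
    rw [← hi, Category.assoc, Category.assoc]
    let a := (U.ι.isoImage U₁).inv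
    haveI := h
    let m : pullback (kob v).hom (a ≫ U₁.ι ≫ U.ι ≫ f) ⟶ pullback (kob v).hom (U₁.ι ≫ U.ι ≫ f) :=
      pullback.lift (pullback.fst _ _) (pullback.snd _ _ ≫ a) (by rw [Category.assoc]; exact pullback.condition)
    have sq : IsPullback m (pullback.snd (kob v).hom (a ≫ U₁.ι ≫ U.ι ≫ f))
        (pullback.snd (kob v).hom (U₁.ι ≫ U.ι ≫ f)) a :=
      IsPullback.of_right (by
        simpa [m] using (IsPullback.of_hasPullback (kob v).hom (a ≫ U₁.ι ≫ U.ι ≫ f)))
        (pullback.lift_snd _ _ _) (IsPullback.of_hasPullback (kob v).hom (U₁.ι ≫ U.ι ≫ f))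
    exact MorphismProperty.of_isPullback sq h
  choose V hV hflatV using hpiece
  haveI : Flat (pullback.snd (kob v).hom f) := by
    rw [IsZariskiLocalAtTarget.iff_of_iSup_eq_top (P := @Flat) V
      (TopologicalSpace.Opens.ext (Set.eq_univ_of_forall fun z => by
        simpa using ⟨z, hV z⟩))]
    intro z
    have h := hflatV z (V z) rfl
    let g := (V z).ι ≫ f
    let m : pullback (kob v).hom g ⟶ pullback (kob v).hom f :=
      pullback.lift (pullback.fst _ _) (pullback.snd _ _ ≫ (V z).ι) (by rw [Category.assoc]; exact pullback.condition)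
    have sq : IsPullback m (pullback.snd (kob v).hom g) (pullback.snd (kob v).hom f) (V z).ι :=
      IsPullback.of_right (by simpa [m] using (IsPullback.of_hasPullback (kob v).hom g))
        (pullback.lift_snd _ _ _) (IsPullback.of_hasPullback (kob v).hom f)
    have sq' := (isPullback_morphismRestrict (pullback.snd (kob v).hom f) (V z)).flip
    have he := sq'.isoIsPullback_hom_snd _ _ sq
    rw [← MorphismProperty.cancel_left_of_respectsIso @Flat (sq'.isoIsPullback _ _ sq).inv,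
      sq'.isoIsPullback_inv_snd _ _ sq]
    exact h
  haveI : Flat (pullback.snd (kob v).hom f ≫ f) := inferInstance
  haveI : Flat (pullback.fst (kob v).hom f ≫ (kob v).hom) := by
    rw [pullback.condition]; infer_instance
  exact QuotRep.flat_of_comp_surjective (pullback.fst (kob v).hom f) _

/-- The dual of an isomorphism of character groups. -/
theorem nonempty_DS_iso (U : Scheme.{u}) {M N : Type} [AddCommGroup M] [AddCommGroup N] (e : M ≃+ N) :
    Nonempty (Grp.mk (Red.DS U M) ≅ Grp.mk (Red.DS U N)) := by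
  let a : Multiplicative N →* Multiplicative M := e.symm.toAddMonoidHom.toMultiplicative
  let b : Multiplicative M →* Multiplicative N := e.toAddMonoidHom.toMultiplicative
  let i : Red.DS U M ≅ Red.DS U N :=
    { hom := dd U a
      inv := dd U b
      hom_inv_id := by
        rw [MultSubLib.dd_comp_dd, show a.comp b = MonoidHom.id _ from MonoidHom.ext fun m => e.symm_apply_apply m,
          MultSubLib.dd_id]
      inv_hom_id := by
        rw [MultSubLib.dd_comp_dd, show b.comp a = MonoidHom.id _ from MonoidHom.ext fun m => e.apply_symm_apply m,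
          MultSubLib.dd_id] }
  haveI : IsMonHom i.hom := inferInstanceAs (IsMonHom (dd U a))
  exact ⟨Grp.mkIso' i⟩

/-- Where a torus is split an fppf quotient of it is split, Zariski locally. -/
theorem exists_split_quot {Q : Over S} [GrpObj Q] [IsSeparated G.hom] [LocallyOfFinitePresentation G.hom]
    (v : T ⟶ G) [IsMonHom v] (p : T ⟶ Q) [IsMonHom p] [Flat p.left] [LocallyOfFinitePresentation p.left]
    [Surjective p.left] (m : Q ⟶ G) [IsMonHom m] [Mono m] (hpm : p ≫ m = v) {S' : Scheme.{u}} (f : S' ⟶ S)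
    {U : S'.Opens} {r : ℕ} (hU : Red.IsSplitTorusWith (Fin r → ℤ) (Red.bc (U.ι ≫ f) T)) {z : S'} (hzU : z ∈ U) :
    ∃ V : S'.Opens, z ∈ V ∧ ∃ r : ℕ, Red.IsSplitTorusWith (Fin r → ℤ) (Red.bc (V.ι ≫ f) Q) := by
  obtain ⟨e⟩ := hU
  haveI : AddGroup.FG (Fin r → ℤ) := Module.Finite.iff_addGroup_fg.1 inferInstance
  obtain ⟨U₁, P, hz, w, hw, hwP⟩ := exists_nbhd_bc v (U.ι ≫ f) e ⟨z, hzU⟩
  haveI := hw
  let g := U₁.ι ≫ U.ι ≫ f
  let pd : Red.bc U₁.ι (Red.DS U (Fin r → ℤ)) ⟶ Red.bc U₁.ι (Red.DS U P) :=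
    (Over.pullback U₁.ι).map (dd (U : Scheme.{u}) P.subtype.toMultiplicative)
  haveI : IsMonHom pd := DiagRep.isMonHom_bc_map _ _
  obtain ⟨f1, f2, f3⟩ := fppf_bc_dd U₁.ι P
  haveI : Flat pd.left := f1
  haveI : LocallyOfFinitePresentation pd.left := f2
  haveI : Surjective pd.left := f3
  let pb : Red.bc g T ⟶ Red.bc g Q := (Over.pullback g).map p
  haveI : IsMonHom pb := DiagRep.isMonHom_bc_map g p
  haveI : Flat pb.left := MorphismProperty.overPullbackMap (P := @Flat) g p ‹_›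
  haveI : LocallyOfFinitePresentation pb.left :=
    MorphismProperty.overPullbackMap (P := @LocallyOfFinitePresentation) g p ‹_›
  haveI : Surjective pb.left := MorphismProperty.overPullbackMap (P := @Surjective) g p ‹_›
  haveI : IsIso w.hom.left := ((Over.forget _).mapIso w).isIso_hom
  haveI : Flat (w.hom ≫ pb).left := inferInstanceAs (Flat (w.hom.left ≫ pb.left))
  haveI : LocallyOfFinitePresentation (w.hom ≫ pb).left :=
    inferInstanceAs (LocallyOfFinitePresentation (w.hom.left ≫ pb.left))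
  haveI : Surjective (w.hom ≫ pb).left := inferInstanceAs (Surjective (w.hom.left ≫ pb.left))
  obtain ⟨e₂⟩ := exists_iso_of_ker_eq (w.hom ≫ pb) pd fun Y x => by
    rw [← hwP Y x, ← hpm, Functor.map_comp]
    haveI : IsMonHom (M := Red.bc g Q) (N := Red.bc g G) ((Over.pullback g).map m) := DiagRep.isMonHom_bc_map g m
    simp only [Category.assoc]
    constructor
    · intro h
      rw [← Category.assoc w.hom, ← Category.assoc x, h, MonObj.one_comp]
    · intro h
      have h' : (x ≫ w.hom ≫ pb) ≫ (Over.pullback g).map m = (1 : Y ⟶ Red.bc g Q) ≫ (Over.pullback g).map m := by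
        rw [MonObj.one_comp]
        simpa only [Category.assoc] using h
      exact (cancel_mono _).1 h'
  let c : Red.bc U₁.ι (Red.DS U P) ≅ Red.DS U₁ P :=
    ActBC.bcCompIso U₁.ι _ _ (specULiftZIsTerminal.hom_ext _ _)
  haveI : IsMonHom c.hom := ActBC.bcCompIso_isMonHom _ _ _
  haveI : Module.Free ℤ P.toIntSubmodule := inferInstance
  haveI : Module.Finite ℤ P.toIntSubmodule := inferInstance
  let b := Module.finBasis ℤ P.toIntSubmodule
  let eP : P ≃+ (Fin (Module.finrank ℤ P.toIntSubmodule) → ℤ) := b.equivFun.toAddEquiv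
  obtain ⟨d⟩ := nonempty_DS_iso (U₁ : Scheme.{u}) eP
  let E := e₂ ≪≫ Grp.mkIso' c ≪≫ d
  obtain ⟨E'⟩ := DescHom.nonempty_iso_bc E (𝟙 S) ((U.ι ''ᵁ U₁).ι ≫ f) (U.ι.isoImage U₁).inv (by
    rw [Category.comp_id]
    show (U.ι.isoImage U₁).inv ≫ U₁.ι ≫ U.ι ≫ f = _
    rw [← Category.assoc U₁.ι, ← Category.assoc, Scheme.Hom.isoImage_inv_ι])
  let a : Red.bc ((U.ι ''ᵁ U₁).ι ≫ f) (Red.bc (𝟙 S) Q) ≅ Red.bc ((U.ι ''ᵁ U₁).ι ≫ f) Q :=
    ActBC.bcCompIso _ (𝟙 S) Q (Category.comp_id _)
  haveI : IsMonHom a.hom := ActBC.bcCompIso_isMonHom _ _ _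
  exact ⟨U.ι ''ᵁ U₁, ⟨⟨z, hzU⟩, hz, rfl⟩, _, ⟨(Grp.mkIso' a).symm ≪≫ E'⟩⟩

/-- The image of a torus under a homomorphism is a torus. -/
theorem exists_image_torus [IsSeparated G.hom] [LocallyOfFinitePresentation G.hom] (hT : Red.IsTorus T)
    (v : T ⟶ G) [IsMonHom v] :
    ∃ (T' : Over S) (_ : GrpObj T') (i' : T' ⟶ G) (_ : IsMonHom i') (_ : Mono i') (p : T ⟶ T') (_ : IsMonHom p),
      Red.IsTorus T' ∧ p ≫ i' = v ∧ Flat p.left ∧ Surjective p.left ∧ LocallyOfFinitePresentation p.left := by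
  haveI := flat_ker hT v
  haveI := mono_kin v
  haveI : LocallyOfFinitePresentation T.hom :=
    MultEq.lfp_of_isMultTypeFT (RedRank.isMultTypeFT_of_isTorus hT)
  have hiff : ∀ (Y : Over S) (g g' : Y ⟶ T), g ≫ v = g' ≫ v ↔ ∃ h : Y ⟶ kob v, g * (h ≫ kin v) = g' := by
    intro Y g g'
    constructor
    · intro e
      obtain ⟨y, hy⟩ := (MonoLocus.comp_eq_one_iff v (g⁻¹ * g')).1
        (by rw [MonObj.mul_comp, GrpObj.inv_comp, e, inv_mul_cancel])
      exact ⟨y, by rw [hy, mul_inv_cancel_left]⟩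
    · rintro ⟨h, rfl⟩
      rw [MonObj.mul_comp, (MonoLocus.comp_eq_one_iff v (h ≫ kin v)).2 ⟨h, rfl⟩, mul_one]
  obtain ⟨Q, p, m, hpm, hs, hf, hl, hm, hQ, -⟩ := MonoQuot.exists_quotient_cosets (kin v) v
    (Or.inl inferInstance) (MonoQuot.isPullback_cosets _ _ hiff)
  haveI := hs
  haveI := hf
  haveI := hl
  haveI := hm
  obtain ⟨iQ, hp, hm'⟩ := MonoQuot.exists_grpObj_image p m hpm
  letI := iQ
  haveI := hp
  refine ⟨Q, iQ, m, hm', hm, p, hp, ?_, hpm, hf, hs, hl⟩
  obtain ⟨S', f, hflat, hsurj, hcov, hloc⟩ := hT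
  refine ⟨S', f, hflat, hsurj, hcov, fun z => ?_⟩
  obtain ⟨U, hzU, r, e⟩ := hloc z
  exact exists_split_quot v p m hpm f e hzU

end Groth.Agent.ImgTorus
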