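import Groth.Agent.ImgTorusLib.Commute
import Groth.Agent.MultExtLib.Rigid
import Groth.Agent.BorelLib.CentralPreimageRanks
import Groth.Agent.S4120

/-!
Two maximal tori with the same image under a homomorphism with central kernel coincide.
-/

set_option autoImplicit false
set_option linter.style.haveILetI false
set_option linter.unusedSectionVars false
set_option backward.isDefEq.respectTransparency false
set_option maxHeartbeats 1000000
set_option synthInstance.maxHeartbeats 400000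

noncomputable section

universe u

open CategoryTheory CategoryTheory.Limits MonoidalCategory CartesianMonoidalCategory AlgebraicGeometry
open scoped MonObj

attribute [-instance] CategoryTheory.Hom.commGroup

namespace Groth.Agent.ImgTorus

open Groth.Agent.BorelLib

variable {S : Scheme.{u}}

theorem isConnected_fibre_torus {T : Over S} [GrpObj T] (hT : Red.IsTorus T) (s : S) :
    _root_.IsConnected (T.hom.base ⁻¹' {s}) := by
  haveI : IsMonHom (𝟙 (Red.geomFibre s T)) := inferInstance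
  haveI hft := MultEq.lfp_of_isMultTypeFT (RedRank.isMultTypeFT_of_isTorus hT)
  obtain ⟨r, w, -, -, -, hirr, -, -⟩ := BorelLib.torus_facts (RedRank.isTorus_bc hT (Red.geomPt s))
  haveI := hirr
  exact CentPre.isConnected_fibre_of_geom T s

theorem exists_iso_of_same_image {G G' T₁ T₂ T' : Over S} [GrpObj G] [GrpObj G'] [GrpObj T₁] [GrpObj T₂] [GrpObj T']
    [IsSeparated G.hom] [LocallyOfFinitePresentation G.hom] [QuasiCompact G.hom] (u : G ⟶ G') [IsMonHom u]
    (hker : ∀ (X : Over S) (z : X ⟶ G), z ≫ u = 1 → ∀ (X' : Over S) (x : X' ⟶ X) (g : X' ⟶ G),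
      (x ≫ z) * g = g * (x ≫ z))
    (i₁ : T₁ ⟶ G) (i₂ : T₂ ⟶ G) (i' : T' ⟶ G') [IsMonHom i'] (v₁ : T₁ ⟶ T') (v₂ : T₂ ⟶ T') (hT' : Red.IsTorus T')
    (h₁ : Red.IsMaximalTorus i₁) (h₂ : Red.IsMaximalTorus i₂) (e₁ : v₁ ≫ i' = i₁ ≫ u) (e₂ : v₂ ≫ i' = i₂ ≫ u) :
    ∃ φ : T₁ ≅ T₂, φ.hom ≫ i₂ = i₁ := by
  obtain ⟨him₁, hio₁, hit₁, -⟩ := id h₁
  obtain ⟨him₂, hio₂, hit₂, -⟩ := id h₂
  haveI := him₁; haveI := hio₁; haveI := him₂; haveI := hio₂
  have hcomm : ∀ (X : Over S) (a : X ⟶ T₁) (b : X ⟶ T₂), (a ≫ i₁) * (b ≫ i₂) = (b ≫ i₂) * (a ≫ i₁) :=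
    commute_of_central_commutator (RedRank.isMultTypeFT_of_isTorus hit₁) (isConnected_fibre_torus hit₂) i₁ i₂
      fun X a b g => by
        have hk : ((a ≫ i₁) * (b ≫ i₂) * (a ≫ i₁)⁻¹ * (b ≫ i₂)⁻¹) ≫ u = 1 := by
          rw [MonObj.mul_comp, MonObj.mul_comp, MonObj.mul_comp, GrpObj.inv_comp, GrpObj.inv_comp, Category.assoc,
            Category.assoc, ← e₁, ← e₂, ← Category.assoc, ← Category.assoc,
            show ((a ≫ v₁) ≫ i') * ((b ≫ v₂) ≫ i') = ((b ≫ v₂) ≫ i') * ((a ≫ v₁) ≫ i') by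
              rw [← MonObj.mul_comp, ← MonObj.mul_comp,
                MultExt.commute_of_isMultTypeFT (RedRank.isMultTypeFT_of_isTorus hT') (a ≫ v₁) (b ≫ v₂)],
            mul_inv_cancel_right, mul_inv_cancel]
        have := hker X _ hk X (𝟙 X) g
        rwa [Category.id_comp] at this
  obtain ⟨f, hf⟩ := S4120.result S G T₁ T₂ i₁ i₂ h₁ hit₂ hcomm
  obtain ⟨f', hf'⟩ := S4120.result S G T₂ T₁ i₂ i₁ h₂ hit₁ fun X a b => (hcomm X b a).symm
  exact ⟨⟨f', f, by rw [← cancel_mono i₁, Category.assoc, hf, hf', Category.id_comp],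
    by rw [← cancel_mono i₂, Category.assoc, hf', hf, Category.id_comp]⟩, hf'⟩

end Groth.Agent.ImgTorus
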