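import Groth.Agent.ImgTorusLib.Field
import Groth.Agent.MonoQuotLib.Orbit
import Groth.Agent.S6059

/-!
Locally on the base the kernel of a homomorphism out of a diagonalisable group is diagonalisable.
-/

set_option autoImplicit false
set_option backward.isDefEq.respectTransparency false
set_option linter.style.haveILetI false
set_option synthInstance.maxHeartbeats 400000

noncomputable section

universe u

open CategoryTheory CategoryTheory.Limits MonoidalCategory CartesianMonoidalCategory AlgebraicGeometry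
open scoped MonObj

namespace Groth.Agent.ImgTorus

open MultSubLib (chars dd)

variable {S S' : Scheme.{u}}

section Points

set_option linter.unusedSectionVars false

variable (g : S' ⟶ S) {X Z : Over S} [GrpObj X] [GrpObj Z]

theorem bcPt_one (Y : Over S') : (Over.mapPullbackAdj g).homEquiv Y X 1 = 1 := by
  have h := AlgGrp.Action.homEquiv_mul g (1 : (Over.map g).obj Y ⟶ X) 1
  rw [mul_one] at h
  exact mul_eq_left.1 h.symm

/-- Killing by a homomorphism is read on points over the base. -/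
theorem bcPt_comp_eq_one_iff (f : X ⟶ Z) {Y : Over S'} (x : Y ⟶ (Over.pullback g).obj X) :
    x ≫ (Over.pullback g).map f = 1 ↔ ((Over.mapPullbackAdj g).homEquiv Y X).symm x ≫ f = 1 := by
  conv_lhs => rw [← ((Over.mapPullbackAdj g).homEquiv Y X).apply_symm_apply x,
    ← Adjunction.homEquiv_naturality_right, ← bcPt_one g (X := Z) Y, Equiv.apply_eq_iff_eq]

end Points

variable {M : Type} [AddCommGroup M] [AddGroup.FG M] {G : Over S} [GrpObj G]

set_option maxHeartbeats 1600000 in
/-- Near every point the kernel is the subgroup killed by a fixed group of characters. -/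
theorem exists_exact_nbhd [IsSeparated G.hom] [LocallyOfFinitePresentation G.hom]
    (v : Red.DS S M ⟶ G) [IsMonHom v] (s : S) :
    ∃ (U : S.Opens) (P : AddSubgroup M), s ∈ U ∧
      ∀ (Y : Over S) (q : Y.left ⟶ U), q ≫ U.ι = Y.hom → ∀ h : Y ⟶ Red.DS S M,
        h ≫ v = 1 ↔ h ≫ dd S P.subtype.toMultiplicative = 1 := by
  obtain ⟨O, P, hsO, ha, hb⟩ := exists_char_nbhd v s
  haveI := fg_addSubgroup P
  let p := dd S P.subtype.toMultiplicative
  obtain ⟨f1, f2, f3⟩ := fppf_dd (S := S) P.subtype.toMultiplicative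
    (show Function.Injective P.subtype from Subtype.val_injective)
  let g : (O : Scheme.{u}) ⟶ S := O.ι
  let adj := Over.mapPullbackAdj g
  let pO : Red.bc g (Red.DS S M) ⟶ Red.bc g (Red.DS S P) := (Over.pullback g).map p
  let vO : Red.bc g (Red.DS S M) ⟶ Red.bc g G := (Over.pullback g).map v
  haveI : IsMonHom pO := DiagRep.isMonHom_bc_map g p
  haveI : IsMonHom vO := DiagRep.isMonHom_bc_map g v
  haveI : IsSeparated (Red.bc g G).hom := inferInstanceAs (IsSeparated (pullback.snd G.hom g))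
  haveI : LocallyOfFinitePresentation (Red.bc g G).hom :=
    inferInstanceAs (LocallyOfFinitePresentation (pullback.snd G.hom g))
  haveI : Flat pO.left := MorphismProperty.overPullbackMap (P := @Flat) g p f1
  haveI : LocallyOfFinitePresentation pO.left :=
    MorphismProperty.overPullbackMap (P := @LocallyOfFinitePresentation) g p f2
  haveI : Surjective pO.left := MorphismProperty.overPullbackMap (P := @Surjective) g p f3
  haveI := MonoQuot.epi_over pO
  have hpv : ∀ (Y : Over (O : Scheme.{u})) (x : Y ⟶ Red.bc g (Red.DS S M)), x ≫ pO = 1 → x ≫ vO = 1 := by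
    intro Y x hx
    rw [bcPt_comp_eq_one_iff] at hx ⊢
    exact ha _ Y.hom rfl _ ((comp_dd_eq_one_iff P _).1 hx)
  obtain ⟨w, hw⟩ := MonoQuot.exists_desc_over pO vO fun Y a b e => by
    have h := hpv Y (a * b⁻¹) (by rw [MonObj.mul_comp, GrpObj.inv_comp, e, mul_inv_cancel])
    rw [MonObj.mul_comp, GrpObj.inv_comp] at h
    exact mul_inv_eq_one.1 h
  haveI : IsMonHom w := by
    obtain ⟨t1, t2, t3⟩ := MonoQuot.fppf_tensor pO pO
    haveI := t1; haveI := t2; haveI := t3
    haveI := MonoQuot.epi_over (pO ⊗ₘ pO)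
    refine ⟨?_, ?_⟩
    · rw [← IsMonHom.one_hom pO, Category.assoc, hw, IsMonHom.one_hom vO]
    · rw [← cancel_epi (pO ⊗ₘ pO), ← IsMonHom.mul_hom_assoc, hw, IsMonHom.mul_hom vO, tensorHom_comp_tensorHom_assoc,
        hw]
  have hmono : Mono ((Over.pullback ((O : Scheme.{u}).fromSpecResidueField ⟨s, hsO⟩)).map w).left := by
    rw [MonoLocus.mono_map_iff, MonoLocus.ktriv_iff]
    intro Y q hq h hh
    let Y' : Over (O : Scheme.{u}) := Over.mk (pullback.fst h.left pO.left ≫ Y.hom)
    let c : Y' ⟶ Y := Over.homMk (pullback.fst h.left pO.left) rfl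
    let h' : Y' ⟶ Red.bc g (Red.DS S M) := Over.homMk (pullback.snd h.left pO.left) (by
      show pullback.snd h.left pO.left ≫ _ = pullback.fst h.left pO.left ≫ Y.hom
      rw [← Over.w pO, ← pullback.condition_assoc, Over.w h])
    haveI : Flat c.left := inferInstanceAs (Flat (pullback.fst h.left pO.left))
    haveI : LocallyOfFinitePresentation c.left :=
      inferInstanceAs (LocallyOfFinitePresentation (pullback.fst h.left pO.left))
    haveI : Surjective c.left := inferInstanceAs (Surjective (pullback.fst h.left pO.left))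
    haveI := MonoQuot.epi_over c
    have hc : h' ≫ pO = c ≫ h := Over.OverMorphism.ext pullback.condition.symm
    have h1 : h' ≫ vO = 1 := by
      rw [← hw, reassoc_of% hc, hh, MonObj.comp_one]
    rw [bcPt_comp_eq_one_iff] at h1
    have h2 := hb ((Over.map g).obj Y') ((c.left ≫ q) ≫ Spec.map (g.residueFieldMap ⟨s, hsO⟩)) (by
      show ((c.left ≫ q) ≫ Spec.map (g.residueFieldMap ⟨s, hsO⟩)) ≫ S.fromSpecResidueField (g ⟨s, hsO⟩) =
        Y'.hom ≫ g
      rw [Category.assoc, Scheme.Hom.SpecMap_residueFieldMap_fromSpecResidueField, Category.assoc,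
        reassoc_of% hq]
      exact (Category.assoc _ _ _).symm) _ h1
    rw [← comp_dd_eq_one_iff, ← bcPt_comp_eq_one_iff] at h2
    change h' ≫ pO = 1 at h2
    rw [hc, ← MonObj.comp_one c, cancel_epi] at h2
    exact h2
  obtain ⟨U₂, hsU, hU₂⟩ := S6059.result (Red.bc g (Red.DS S P)) (Red.bc g G)
    (DescHom.isMultTypeFT_bc (MultSubLib.isMultTypeFT_DS S P) g) (Or.inr inferInstance) w ⟨s, hsO⟩ hmono
  rw [MonoLocus.mono_map_iff, MonoLocus.ktriv_iff] at hU₂
  refine ⟨O.ι ''ᵁ U₂, P, ⟨⟨s, hsO⟩, hsU, rfl⟩, fun Y q hq h => ?_⟩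
  have hUO : O.ι ''ᵁ U₂ ≤ O := by
    rintro _ ⟨x, -, rfl⟩
    exact x.2
  let qO : Y.left ⟶ O := q ≫ S.homOfLE hUO
  have hqO : qO ≫ O.ι = Y.hom := by rw [Category.assoc, Scheme.homOfLE_ι, hq]
  refine ⟨fun hv => ?_, fun hp => ha Y qO hqO h ((comp_dd_eq_one_iff P h).1 hp)⟩
  let Y₁ : Over (O : Scheme.{u}) := Over.mk qO
  let ε : (Over.map g).obj Y₁ ⟶ Y := Over.homMk (𝟙 Y.left) (by
    show 𝟙 Y.left ≫ Y.hom = qO ≫ O.ι
    rw [Category.id_comp, hqO])
  haveI : IsIso ((Over.forget S).map ε) := inferInstanceAs (IsIso (𝟙 Y.left))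
  haveI : IsIso ε := isIso_of_reflects_iso ε (Over.forget S)
  let x : Y₁ ⟶ Red.bc g (Red.DS S M) := adj.homEquiv Y₁ _ (ε ≫ h)
  have hx : x ≫ vO = 1 := by
    rw [bcPt_comp_eq_one_iff, Equiv.symm_apply_apply, Category.assoc, hv, MonObj.comp_one]
  have hrange : Set.range qO ⊆ Set.range U₂.ι := by
    rw [Scheme.Opens.range_ι]
    rintro _ ⟨y, rfl⟩
    obtain ⟨z, hz, hze⟩ := (q y).2
    have : qO y = z := Subtype.ext (by
      show O.ι (qO y) = O.ι z
      refine Eq.trans ?_ hze.symm
      rw [← Scheme.Hom.comp_apply, Category.assoc, Scheme.homOfLE_ι]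
      rfl)
    rwa [this]
  have h3 := hU₂ Y₁ (IsOpenImmersion.lift U₂.ι qO hrange) (IsOpenImmersion.lift_fac _ _ _) (x ≫ pO)
    (by rw [Category.assoc, hw, hx])
  rw [bcPt_comp_eq_one_iff, Equiv.symm_apply_apply, Category.assoc, ← MonObj.comp_one ε, cancel_epi] at h3
  exact h3

end Groth.Agent.ImgTorus
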