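import Groth.Agent.MonoLocusLib.Alg

/-!
The closed subgroups of a diagonalisable group over a field are given by groups of characters.
-/

set_option autoImplicit false

noncomputable section

universe u

open scoped TensorProduct

namespace Groth.Agent.ImgTorus

open Groth.Agent.MonoLocus

variable {M : Type} [AddCommGroup M]

/-- A point lies in a subgroup cut out by an ideal iff its character is trivial on a fixed group of characters. -/
theorem exists_killed {k : Type u} [Field k] (I : Ideal (MonoidAlgebra k (Multiplicative M))) (hI : MulClosed I)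
    (h1 : I ≤ RingHom.ker (ev (RingHom.id k) (1 : Multiplicative M →* k))) :
    ∃ N : AddSubgroup M, ∀ (T : Type u) [CommRing T] (φ : k →+* T) (χ : Multiplicative M →* T),
      I ≤ RingHom.ker (ev φ χ) ↔ ∀ m ∈ N, χ (Multiplicative.ofAdd m) = 1 := by
  classical
  let e := uchr I (RingHom.id k)
  let N : AddSubgroup M :=
    { carrier := {m | e (Multiplicative.ofAdd m) = 1}
      zero_mem' := map_one e
      add_mem' := fun {a b} ha hb => by
        show e (Multiplicative.ofAdd a * Multiplicative.ofAdd b) = 1
        rw [map_mul, show e _ = 1 from ha, show e _ = 1 from hb, one_mul]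
      neg_mem' := fun {a} ha => by
        show e (Multiplicative.ofAdd a)⁻¹ = 1
        have := map_mul e (Multiplicative.ofAdd a) (Multiplicative.ofAdd a)⁻¹
        rw [mul_inv_cancel, map_one, show e (Multiplicative.ofAdd a) = 1 from ha, one_mul] at this
        exact this.symm }
  have hmp : ∀ x : MonoidAlgebra k (Multiplicative M), mp (RingHom.id k) x = x := by
    intro x
    induction x using MonoidAlgebra.induction_linear with
    | zero => simp
    | add x y hx hy => simp [hx, hy]
    | single m r => simp [mp_single]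
  have hmap : ∀ (T : Type u) [CommRing T] (φ : k →+* T) (χ : Multiplicative M →* T),
      I ≤ RingHom.ker (ev φ χ) → I.map (mp (RingHom.id k)) ≤ RingHom.ker (ev φ χ) :=
    fun T _ φ χ h => Ideal.map_le_iff_le_comap.2 fun x hx => by
      rw [Ideal.mem_comap, hmp]
      exact h hx
  refine ⟨N, fun T _ φ χ => ⟨fun hkill m hm => ?_, fun hχ => ?_⟩⟩
  · have h0 : MonoidAlgebra.single (Multiplicative.ofAdd m) (1 : k) - 1 ∈ I.map (mp (RingHom.id k)) := by
      rw [← Ideal.Quotient.eq_zero_iff_mem, map_sub, map_one, sub_eq_zero]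
      exact hm
    have h3 := hmap T φ χ hkill h0
    rw [RingHom.mem_ker, map_sub, map_one, ev_single, map_one, one_mul, sub_eq_zero] at h3
    exact h3
  intro x hx
  have hconst : ∀ m m', e m = e m' → χ m = χ m' := by
    intro m m' h
    have hmem : (m * m'⁻¹).toAdd ∈ N := by
      show e (m * m'⁻¹) = 1
      rw [map_mul, h, ← map_mul, mul_inv_cancel, map_one]
    have h2 : χ (m * m'⁻¹) = 1 := hχ _ hmem
    calc χ m = χ (m * m'⁻¹) * χ m' := by rw [← map_mul, inv_mul_cancel_right]
      _ = χ m' := by rw [h2, one_mul]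
  have hnt : ∀ m, e m ≠ 0 := by
    intro m h0
    have h2 : (1 : MonoidAlgebra k (Multiplicative M) ⧸ I.map (mp (RingHom.id k))) = 0 := by
      rw [← map_one e, ← mul_inv_cancel m, map_mul, h0, zero_mul]
    rw [← map_one (Ideal.Quotient.mk _), Ideal.Quotient.eq_zero_iff_mem] at h2
    have h3 := hmap k _ 1 h1 h2
    rw [RingHom.mem_ker, map_one] at h3
    exact one_ne_zero h3
  obtain ⟨Δ, hΔ⟩ := exists_diag_uchr I hI (RingHom.id k)
  let s := x.coeff.support
  let c : (MonoidAlgebra k (Multiplicative M) ⧸ I.map (mp (RingHom.id k))) → k :=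
    fun b => ∑ m ∈ s.filter (fun m => e m = b), x.coeff m
  have hx' : ∑ m ∈ s, MonoidAlgebra.single m (x.coeff m) = x := MonoidAlgebra.sum_single x
  have hsingle : ∀ m r, Ideal.Quotient.mk (I.map (mp (RingHom.id k))) (MonoidAlgebra.single m r) = r • e m := by
    intro m r
    rw [show MonoidAlgebra.single m r = r • MonoidAlgebra.single m (1 : k) by simp]
    rfl
  have h0 : ∀ b ∈ s.image e, c b = 0 := by
    refine linearIndepOn_sq Δ (s.image e) (fun b hb => ?_) (fun b hb => ?_) c ?_
    · obtain ⟨m, -, rfl⟩ := Finset.mem_image.1 hb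
      exact hΔ m
    · obtain ⟨m, -, rfl⟩ := Finset.mem_image.1 hb
      exact hnt m
    · have h1 : Ideal.Quotient.mk (I.map (mp (RingHom.id k))) x = 0 :=
        Ideal.Quotient.eq_zero_iff_mem.2 (hmp x ▸ Ideal.mem_map_of_mem _ hx)
      rw [← hx', map_sum, ← Finset.sum_fiberwise_of_maps_to (fun m hm => Finset.mem_image_of_mem e hm)] at h1
      rw [← h1]
      refine Finset.sum_congr rfl fun b _ => ?_
      rw [Finset.sum_smul]
      refine Finset.sum_congr rfl fun m hm => ?_
      rw [hsingle, (Finset.mem_filter.1 hm).2]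
  rw [RingHom.mem_ker, ← hx', map_sum, ← Finset.sum_fiberwise_of_maps_to (fun m hm => Finset.mem_image_of_mem e hm)]
  refine Finset.sum_eq_zero fun b hb => ?_
  obtain ⟨m₀, hm₀, rfl⟩ := Finset.mem_image.1 hb
  have : ∀ m ∈ s.filter (fun m => e m = e m₀),
      ev φ χ (MonoidAlgebra.single m (x.coeff m)) = φ (x.coeff m) * χ m₀ := fun m hm => by
    rw [ev_single, hconst m m₀ (Finset.mem_filter.1 hm).2]
  rw [Finset.sum_congr rfl this, ← Finset.sum_mul, ← map_sum]
  show φ (c (e m₀)) * χ m₀ = 0
  rw [h0 _ (Finset.mem_image_of_mem e hm₀), map_zero, zero_mul]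

end Groth.Agent.ImgTorus
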