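import Groth.Agent.MultSubLib.Locus
import Groth.Agent.RedRankLib.Fam
import Groth.Agent.TrivLocusLib.Global

/-!
A group of multiplicative type and a group with connected fibres whose commutators are central commute.
-/

set_option autoImplicit false
set_option linter.style.haveILetI false
set_option linter.unusedSectionVars false
set_option backward.isDefEq.respectTransparency false
set_option synthInstance.maxHeartbeats 400000

noncomputable section

universe u

open CategoryTheory CategoryTheory.Limits MonoidalCategory CartesianMonoidalCategory AlgebraicGeometry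
open scoped MonObj

namespace Groth.Agent.ImgTorus

open Groth.Agent.RedRank (homOf isMonHom_homOf)

variable {S : Scheme.{u}}

theorem commute_of_central_commutator {G H R : Over S} [GrpObj G] [GrpObj H] [GrpObj R] [IsSeparated G.hom]
    [LocallyOfFiniteType G.hom] (hH : SGA3x.IsMultTypeFT H)
    (hR : ∀ s : S, _root_.IsConnected (R.hom.base ⁻¹' {s})) (i : H ⟶ G) [IsMonHom i] (j : R ⟶ G) [IsMonHom j]
    (hz : ∀ (X : Over S) (h : X ⟶ H) (r : X ⟶ R) (g : X ⟶ G),
      ((h ≫ i) * (r ≫ j) * (h ≫ i)⁻¹ * (r ≫ j)⁻¹) * g = g * ((h ≫ i) * (r ≫ j) * (h ≫ i)⁻¹ * (r ≫ j)⁻¹))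
    (X : Over S) (h : X ⟶ H) (r : X ⟶ R) : (h ≫ i) * (r ≫ j) = (r ≫ j) * (h ≫ i) := by
  let c : H ⊗ R ⟶ G :=
    (fst H R ≫ i) * (snd H R ≫ j) * (fst H R ≫ i)⁻¹ * (snd H R ≫ j)⁻¹
  have hc : ∀ (X : Over S) (h : X ⟶ H) (r : X ⟶ R),
      lift h r ≫ c = (h ≫ i) * (r ≫ j) * (h ≫ i)⁻¹ * (r ≫ j)⁻¹ := fun X h r => by
    simp only [c, MonObj.comp_mul, GrpObj.comp_inv, lift_fst_assoc, lift_snd_assoc]
  have hfam : AutFam.IsHomFamily H G c := by
    intro X a b r
    rw [hc, hc, hc, MonObj.mul_comp]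
    generalize ha : a ≫ i = A
    generalize hb : b ≫ i = B
    generalize hr : r ≫ j = C
    have h2 := hz X b r A
    rw [hb, hr] at h2
    have h3 := hz X b r (A * C * A⁻¹ * C⁻¹)
    rw [hb, hr] at h3
    calc A * B * C * (A * B)⁻¹ * C⁻¹ = A * (B * C * B⁻¹ * C⁻¹) * C * A⁻¹ * C⁻¹ := by
          simp [mul_assoc]
      _ = (B * C * B⁻¹ * C⁻¹) * A * C * A⁻¹ * C⁻¹ := by rw [h2]
      _ = (B * C * B⁻¹ * C⁻¹) * (A * C * A⁻¹ * C⁻¹) := by simp only [mul_assoc]
      _ = (A * C * A⁻¹ * C⁻¹) * (B * C * B⁻¹ * C⁻¹) := h3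
  haveI : IsSeparated (Red.bc R.hom G).hom := inferInstanceAs (IsSeparated (pullback.snd G.hom R.hom))
  haveI : LocallyOfFiniteType (Red.bc R.hom G).hom :=
    inferInstanceAs (LocallyOfFiniteType (pullback.snd G.hom R.hom))
  haveI : IsMonHom (homOf c) := isMonHom_homOf hfam
  obtain ⟨O, hOc, hO, htriv⟩ := TrivLocus.exists_locus (DescHom.isMultTypeFT_bc hH R.hom)
    (TrivLocus.eqFinPres_of_lft (u := homOf c))
  have hall : ∀ y : R.left, y ∈ O := by
    intro y
    let s : S := R.hom y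
    let e : R.left := (η[R] : 𝟙_ (Over S) ⟶ R).left s
    have hes : e ∈ R.hom.base ⁻¹' {s} := by
      show R.hom ((η[R] : 𝟙_ (Over S) ⟶ R).left s) = s
      rw [← Scheme.Hom.comp_apply, Over.w]
      rfl
    let g : Spec (S.residueField s) ⟶ R.left := S.fromSpecResidueField s ≫ (η[R] : 𝟙_ (Over S) ⟶ R).left
    have hge : g (IsLocalRing.closedPoint (S.residueField s)) = e := by
      show (S.fromSpecResidueField s ≫ _) _ = _
      rw [Scheme.Hom.comp_apply, Scheme.fromSpecResidueField_apply]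
      rfl
    have heO : e ∈ O := by
      rw [hO, ← hge]
      refine (TrivLocus.triv_field_iff (u := homOf c) g).1 ?_
      rw [MultSubLib.triv_homOf_iff]
      intro Y q w h
      let t : Y ⟶ 𝟙_ (Over S) := Over.homMk (q ≫ S.fromSpecResidueField s) (by
        show (q ≫ _) ≫ 𝟙 S = Y.hom
        rw [Category.comp_id, ← w, Category.assoc, Category.assoc]
        simp [g])
      have e1 : (Over.homMk (q ≫ g) w : Y ⟶ R) = 1 := by
        rw [show (1 : Y ⟶ R) = t ≫ η[R] by rw [toUnit_unique t (toUnit Y)]; rfl]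
        exact Over.OverMorphism.ext (Category.assoc _ _ _).symm
      rw [hc, e1, MonObj.one_comp, mul_one, inv_one, mul_one, mul_inv_cancel]
    have hsub : R.hom.base ⁻¹' {s} ⊆ (O : Set R.left) :=
      (hR s).isPreconnected.subset_isClopen ⟨hOc, O.isOpen⟩ ⟨e, hes, heO⟩
    exact hsub rfl
  have hrange : Set.range r.left ⊆ Set.range O.ι := by
    rw [Scheme.Opens.range_ι]
    rintro _ ⟨x, rfl⟩
    exact hall _
  have h1 := (MultSubLib.triv_homOf_iff c O.ι).1 htriv X (IsOpenImmersion.lift O.ι r.left hrange)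
    (by rw [IsOpenImmersion.lift_fac, Over.w r]) h
  rw [show (Over.homMk (IsOpenImmersion.lift O.ι r.left hrange ≫ O.ι)
    (by rw [IsOpenImmersion.lift_fac, Over.w r]) : X ⟶ R) = r from Over.OverMorphism.ext (IsOpenImmersion.lift_fac _ _ _),
    hc, mul_inv_eq_one, mul_inv_eq_iff_eq_mul] at h1
  exact h1

end Groth.Agent.ImgTorus
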