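import Groth.Agent.ImgTorusLib.Alg
import Groth.Agent.MultSubLib.Locus
import Groth.Agent.MultHomLib.Piece
import Groth.Agent.MultEqLib.Props

/-!
A homomorphism out of a diagonalisable group near a point: the characters killed, and the dual of an inclusion.
-/

set_option autoImplicit false
set_option backward.isDefEq.respectTransparency false

noncomputable section

universe u

open CategoryTheory CategoryTheory.Limits MonoidalCategory CartesianMonoidalCategory AlgebraicGeometry CoactBr
open scoped MonObj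

namespace Groth.Agent.ImgTorus

open MultSubLib (chars dd)
open Groth.Agent.TrivLocus (Triv)

variable {S : Scheme.{u}} {M N : Type} [AddCommGroup M] [AddCommGroup N]

/-- The dual homomorphism is a base change of the one over the integers. -/
theorem dd_eq_map (ψ : Multiplicative N →* Multiplicative M) :
    dd S ψ = (Over.pullback (DSPtsLib.toZ S)).map (MultHom.dpt (R := DSPtsLib.Z0.{u}) ψ) := by
  have h : ∀ (T : Over S) (χ : Multiplicative M →* Γ(T.left, ⊤)),
      DSPtsLib.dsPt (S := S) χ ≫ (Over.pullback (DSPtsLib.toZ S)).map (MultHom.dpt (R := DSPtsLib.Z0.{u}) ψ) =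
        DSPtsLib.dsPt (χ.comp ψ) := by
    intro T χ
    refine ((Over.mapPullbackAdj (DSPtsLib.toZ S)).homEquiv_naturality_right _ _).symm.trans ?_
    rw [Category.assoc, MultHom.pt_chr_dpt]
    rfl
  conv_rhs => rw [← Category.id_comp ((Over.pullback _).map _), ← MultSubLib.dsPt_chars (𝟙 (Red.DS S M)), h]
  rfl

/-- The dual of an inclusion of characters is an fppf covering. -/
theorem fppf_dd [AddGroup.FG M] [AddGroup.FG N] (ψ : Multiplicative N →* Multiplicative M)
    (hψ : Function.Injective ψ) :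
    Flat (dd S ψ).left ∧ LocallyOfFinitePresentation (dd S ψ).left ∧ Surjective (dd S ψ).left := by
  have h : MultHom.FS (dd S ψ).left := by
    rw [dd_eq_map]
    exact MorphismProperty.overPullbackMap (P := MultHom.FS) _ _ (MultHom.fs_dpt hψ)
  haveI := MultEq.lfp_DS S M
  haveI := MultEq.lfp_DS S N
  haveI : LocallyOfFinitePresentation ((dd S ψ).left ≫ (Red.DS S N).hom) := by
    rw [Over.w]; infer_instance
  exact ⟨h.1, AlgSpLib.lfp_of_comp_lft _ (Red.DS S N).hom, h.2⟩

theorem fg_addSubgroup [AddGroup.FG M] (N : AddSubgroup M) : AddGroup.FG N := by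
  haveI : Module.Finite ℤ M := Module.Finite.iff_addGroup_fg.2 inferInstance
  haveI : Module.Finite ℤ N.toIntSubmodule := inferInstance
  exact Module.Finite.iff_addGroup_fg.1 ‹_›

theorem comp_dd_eq_one_iff (P : AddSubgroup M) {Y : Over S} (h : Y ⟶ Red.DS S M) :
    h ≫ dd S P.subtype.toMultiplicative = 1 ↔ ∀ m ∈ P, chars h (Multiplicative.ofAdd m) = 1 := by
  constructor
  · intro e m hm
    have h' := congrArg chars e
    rw [MultSubLib.chars_comp_dd, MultSubLib.chars_one] at h'
    exact DFunLike.congr_fun h' (Multiplicative.ofAdd ⟨m, hm⟩)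
  · intro e
    refine MultSubLib.chars_injective ?_
    rw [MultSubLib.chars_comp_dd, MultSubLib.chars_one]
    exact MonoidHom.ext fun m => e _ (Multiplicative.toAdd m).2

variable {G : Over S} [GrpObj G]

/-- Around a point the subgroup killed by a fixed group of characters is killed, and it is the whole kernel at the point. -/
theorem exists_char_nbhd [AddGroup.FG M] [IsSeparated G.hom] [LocallyOfFiniteType G.hom]
    (v : Red.DS S M ⟶ G) [IsMonHom v] (s : S) :
    ∃ (O : S.Opens) (P : AddSubgroup M), s ∈ O ∧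
      (∀ (Y : Over S) (q : Y.left ⟶ O), q ≫ O.ι = Y.hom → ∀ h : Y ⟶ Red.DS S M,
        (∀ m ∈ P, chars h (Multiplicative.ofAdd m) = 1) → h ≫ v = 1) ∧
      (∀ (Y : Over S) (q : Y.left ⟶ Spec (S.residueField s)), q ≫ S.fromSpecResidueField s = Y.hom →
        ∀ h : Y ⟶ Red.DS S M, h ≫ v = 1 → ∀ m ∈ P, chars h (Multiplicative.ofAdd m) = 1) := by
  let T : Over S := Over.mk (S.fromSpecResidueField s)
  haveI : IsAffine T.left := inferInstanceAs (IsAffine (Spec _))
  let φ := fst (Red.DS S M) T ≫ v
  have hφ : AutFam.IsHomFamily (Red.DS S M) G φ := fun Y g₁ g₂ t => by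
    simp only [φ, lift_fst_assoc, MonObj.mul_comp]
  obtain ⟨I, hI, hmul, h1⟩ := MultSubLib.exists_kernel_ideal φ hφ
  have hfield : IsField Γ(T.left, ⊤) :=
    (Scheme.ΓSpecIso (S.residueField s)).commRingCatIsoToRingEquiv.toMulEquiv.isField
      (Field.toIsField (S.residueField s))
  letI : Field Γ(T.left, ⊤) := hfield.toField
  obtain ⟨P, hP⟩ := exists_killed I hmul h1
  have hker : ∀ (Y : Over S) (t : Y ⟶ T) (h : Y ⟶ Red.DS S M),
      h ≫ v = 1 ↔ ∀ m ∈ P, chars h (Multiplicative.ofAdd m) = 1 := by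
    intro Y t h
    rw [← hP _ t.left.appTop.hom, ← hI Y t (chars h), MultSubLib.dsPt_chars]
    simp only [φ, lift_fst_assoc]
  let π : Multiplicative M →* Multiplicative (M ⧸ P) := (QuotientAddGroup.mk' P).toMultiplicative
  have hπ : ∀ m ∈ P, π (Multiplicative.ofAdd m) = 1 := fun m hm => (QuotientAddGroup.eq_zero_iff m).2 hm
  haveI : IsMonHom (dd S π ≫ v) := inferInstance
  obtain ⟨O, -, hO, htriv⟩ := TrivLocus.exists_locus (MultSubLib.isMultTypeFT_DS S (M ⧸ P))
    (TrivLocus.eqFinPres_of_lft (u := dd S π ≫ v))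
  refine ⟨O, P, (hO s).2 fun Y q hq g => ?_, fun Y q hq h hh => ?_, fun Y q hq h hh => (hker Y (Over.homMk q hq) h).1 hh⟩
  · rw [← Category.assoc, hker Y (Over.homMk q hq)]
    intro m hm
    rw [MultSubLib.chars_comp_dd]
    show chars g (π (Multiplicative.ofAdd m)) = 1
    rw [hπ m hm, map_one]
  · let χ : Multiplicative (M ⧸ P) →* Γ(Y.left, ⊤) := AddMonoidHom.toMultiplicativeLeft
      (QuotientAddGroup.lift P (AddMonoidHom.toMultiplicativeLeft.symm (chars h)) fun m hm => hh m hm)
    have e : DSPtsLib.dsPt χ ≫ dd S π = h := by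
      refine MultSubLib.chars_injective ?_
      rw [MultSubLib.chars_comp_dd, MultSubLib.chars_dsPt]
      exact MonoidHom.ext fun m => rfl
    rw [← e, Category.assoc]
    exact htriv Y q hq _

end Groth.Agent.ImgTorus
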