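import Groth.Agent.ImgTorusLib.Nbhd
import Groth.Agent.MonoQuotLib.Kernel
import Groth.Agent.QuotRepLib.Saturate

/-!
Homomorphisms with the same kernel: flatness of the kernel and comparison of the quotients.
-/

set_option autoImplicit false
set_option linter.style.haveILetI false
set_option linter.unusedSectionVars false
set_option backward.isDefEq.respectTransparency false
set_option synthInstance.maxHeartbeats 400000

noncomputable section

universe u

open CategoryTheory CategoryTheory.Limits MonoidalCategory CartesianMonoidalCategory AlgebraicGeometry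
open scoped MonObj

namespace Groth.Agent.ImgTorus

open MonoLocus (kob kin comp_eq_one_iff)

variable {S S' : Scheme.{u}} {T G Q : Over S} [GrpObj T] [GrpObj G] [GrpObj Q]

/-- The inclusion of the kernel is a monomorphism. -/
theorem mono_kin (v : T ⟶ G) : Mono (kin v) := by
  have hη : (η[G] : 𝟙_ (Over S) ⟶ G).left ≫ G.hom = 𝟙 S := Over.w _
  haveI : IsSplitMono (η[G] : 𝟙_ (Over S) ⟶ G).left := IsSplitMono.mk' ⟨G.hom, hη⟩
  haveI : Mono (kin v).left :=
    inferInstanceAs (Mono (pullback.fst v.left (η[G] : 𝟙_ (Over S) ⟶ G).left))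
  exact Over.mono_of_mono_left _

/-- The kernel of a flat homomorphism is flat. -/
theorem flat_kob (p : T ⟶ Q) [Flat p.left] : Flat (kob p).hom := by
  have hη : (η[Q] : 𝟙_ (Over S) ⟶ Q).left ≫ Q.hom = 𝟙 S := Over.w _
  have h : (kob p).hom = pullback.snd p.left (η[Q] : 𝟙_ (Over S) ⟶ Q).left := by
    show pullback.fst p.left (η[Q] : 𝟙_ (Over S) ⟶ Q).left ≫ T.hom = _
    rw [← Over.w p, ← Category.assoc, pullback.condition, Category.assoc, hη]
    exact Category.comp_id _
  rw [h]
  exact inferInstanceAs (Flat (pullback.snd p.left (η[Q] : 𝟙_ (Over S) ⟶ Q).left))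

/-- Factorisation through the base change of the kernel. -/
theorem exists_factor_bc_kin (v : T ⟶ G) (g : S' ⟶ S) {Y : Over S'} (x : Y ⟶ Red.bc g T) :
    (∃ z : Y ⟶ Red.bc g (kob v), z ≫ (Over.pullback g).map (kin v) = x) ↔
      x ≫ (Over.pullback g).map v = 1 := by
  let adj := Over.mapPullbackAdj g
  rw [bcPt_comp_eq_one_iff, comp_eq_one_iff]
  constructor
  · rintro ⟨z, rfl⟩
    exact ⟨(adj.homEquiv _ _).symm z, (adj.homEquiv_naturality_right_symm _ _).symm⟩
  · rintro ⟨y, hy⟩
    exact ⟨adj.homEquiv _ _ y, by rw [← adj.homEquiv_naturality_right, hy, Equiv.apply_symm_apply]⟩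

theorem mono_bc_kin (v : T ⟶ G) (g : S' ⟶ S) : Mono ((Over.pullback g).map (kin v)) := by
  haveI := mono_kin v
  infer_instance

/-- If the kernel over `S'` is that of a flat homomorphism, it is flat. -/
theorem flat_bc_kob (v : T ⟶ G) (g : S' ⟶ S) {T' Q' : Over S'} [GrpObj T'] [GrpObj Q']
    (w : T' ≅ Red.bc g T) [IsMonHom w.hom] (p : T' ⟶ Q') [Flat p.left]
    (h : ∀ (Y : Over S') (x : Y ⟶ T'), (x ≫ w.hom) ≫ (Over.pullback g).map v = 1 ↔ x ≫ p = 1) :
    Flat (pullback.snd (kob v).hom g) := by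
  haveI := mono_bc_kin v g
  haveI := mono_kin p
  obtain ⟨a, ha⟩ := (exists_factor_bc_kin v g (kin p ≫ w.hom)).2
    ((h _ _).2 ((comp_eq_one_iff p _).2 ⟨𝟙 _, Category.id_comp _⟩))
  let i : Red.bc g (kob v) ⟶ Red.bc g T := (Over.pullback g).map (kin v)
  obtain ⟨b, hb⟩ := (comp_eq_one_iff p (i ≫ w.inv)).1 ((h _ _).1 (by
    rw [Category.assoc i, Iso.inv_hom_id, Category.comp_id]
    exact (exists_factor_bc_kin v g i).1 ⟨𝟙 _, Category.id_comp _⟩))
  let e : Red.bc g (kob v) ≅ kob p :=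
    { hom := b
      inv := a
      hom_inv_id := by
        rw [← cancel_mono i, Category.assoc, show a ≫ i = _ from ha, reassoc_of% hb, Iso.inv_hom_id,
          Category.comp_id, Category.id_comp]
      inv_hom_id := by
        rw [← cancel_mono (kin p), Category.assoc, hb, ← Category.assoc, show a ≫ i = _ from ha, Category.assoc,
          Iso.hom_inv_id, Category.comp_id, Category.id_comp] }
  haveI := flat_kob p
  haveI : IsIso e.hom.left := ((Over.forget S').mapIso e).isIso_hom
  show Flat (Red.bc g (kob v)).hom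
  rw [← Over.w e.hom]
  infer_instance

/-- Two fppf homomorphisms with the same kernel have the same target. -/
theorem exists_iso_of_ker_eq {Q' : Over S} [GrpObj Q'] (p : T ⟶ Q) [IsMonHom p] [Flat p.left]
    [LocallyOfFinitePresentation p.left] [Surjective p.left] (p' : T ⟶ Q') [IsMonHom p'] [Flat p'.left]
    [LocallyOfFinitePresentation p'.left] [Surjective p'.left]
    (h : ∀ (Y : Over S) (x : Y ⟶ T), x ≫ p = 1 ↔ x ≫ p' = 1) :
    Nonempty (Grp.mk Q ≅ Grp.mk Q') := by
  haveI := MonoQuot.epi_over p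
  haveI := MonoQuot.epi_over p'
  have hdesc : ∀ {A B : Over S} [GrpObj A] [GrpObj B] (a : T ⟶ A) (b : T ⟶ B) [IsMonHom a] [IsMonHom b],
      (∀ (Y : Over S) (x : Y ⟶ T), x ≫ a = 1 → x ≫ b = 1) →
      ∀ (Y : Over S) (x y : Y ⟶ T), x ≫ a = y ≫ a → x ≫ b = y ≫ b := by
    intro A B _ _ a b _ _ hab Y x y e
    have h2 := hab Y (x * y⁻¹) (by rw [MonObj.mul_comp, GrpObj.inv_comp, e, mul_inv_cancel])
    rw [MonObj.mul_comp, GrpObj.inv_comp] at h2
    exact mul_inv_eq_one.1 h2
  obtain ⟨φ, hφ⟩ := MonoQuot.exists_desc_over p p' (hdesc p p' fun Y x => (h Y x).1)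
  obtain ⟨ψ, hψ⟩ := MonoQuot.exists_desc_over p' p (hdesc p' p fun Y x => (h Y x).2)
  let e : Q ≅ Q' :=
    { hom := φ
      inv := ψ
      hom_inv_id := by rw [← cancel_epi p, reassoc_of% hφ, hψ, Category.comp_id]
      inv_hom_id := by rw [← cancel_epi p', reassoc_of% hψ, hφ, Category.comp_id] }
  obtain ⟨t1, t2, t3⟩ := MonoQuot.fppf_tensor p p
  haveI := t1; haveI := t2; haveI := t3
  haveI := MonoQuot.epi_over (p ⊗ₘ p)
  exact ⟨Grp.mkIso e (by rw [← IsMonHom.one_hom p, Category.assoc]; exact (congrArg _ hφ).trans (IsMonHom.one_hom p'))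
    (by rw [← cancel_epi (p ⊗ₘ p), ← IsMonHom.mul_hom_assoc, tensorHom_comp_tensorHom_assoc,
      show p ≫ e.hom = p' from hφ, IsMonHom.mul_hom p'])⟩

end Groth.Agent.ImgTorus
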