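import Groth.Agent.ImgTorusLib.Global
import Groth.Agent.TransporterLib.ClosedImm
import Groth.Agent.MultExtLib.Quot
import Groth.Agent.S0083
import Groth.Prelude.Def_RedSub

/-!
A quotient of a torus by a subgroup of multiplicative type is separated.
-/

set_option autoImplicit false
set_option linter.style.haveILetI false
set_option linter.unusedSectionVars false
set_option backward.isDefEq.respectTransparency false
set_option maxHeartbeats 1600000
set_option synthInstance.maxHeartbeats 400000

noncomputable section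

universe u

open CategoryTheory CategoryTheory.Limits MonoidalCategory CartesianMonoidalCategory AlgebraicGeometry
open scoped MonObj

namespace Groth.Agent.ImgTorus

variable {S : Scheme.{u}} {T H Q : Over S} [GrpObj T] [GrpObj H]

theorem quot_props (hT : Red.IsTorus T) (i : H ⟶ T) [IsMonHom i] [Mono i] (hH : SGA3x.IsMultTypeFT H) (q : T ⟶ Q)
    (hq : RedSub.IsQuotient i q) : IsSeparated Q.hom ∧ LocallyOfFinitePresentation Q.hom := by
  obtain ⟨hs, hf, hl, hsq⟩ := hq
  haveI := hs; haveI := hf; haveI := hl
  haveI hTa : IsAffineHom T.hom := MultEq.isAffineHom_of_isMultTypeFT (RedRank.isMultTypeFT_of_isTorus hT)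
  haveI hTl : LocallyOfFinitePresentation T.hom := MultEq.lfp_of_isMultTypeFT (RedRank.isMultTypeFT_of_isTorus hT)
  haveI : IsAffineHom H.hom := MultEq.isAffineHom_of_isMultTypeFT hH
  have hlfp : LocallyOfFinitePresentation Q.hom := by
    haveI : LocallyOfFinitePresentation (q.left ≫ Q.hom) := by rw [Over.w]; infer_instance
    exact Groth.Agent.S0114.result q.left Q.hom
  refine ⟨?_, hlfp⟩
  have sqL : IsPullback (fst T H).left ((T ◁ i) ≫ μ[T]).left q.left q.left := hsq.map (Over.forget S)
  haveI : QuasiCompact (fst T H).left := inferInstanceAs (QuasiCompact (pullback.fst T.hom H.hom))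
  haveI : QuasiCompact q.left := MultExt.quasiCompact_of_self q.left _ _ sqL
  have hmt : TwC.Locally S TwC.Topology.fpqc (fun S' f => ∃ (M : Type) (_ : AddCommGroup M),
      Nonempty (Grp.mk (Red.bc f H) ≅ Grp.mk (Red.DS S' M))) := by
    obtain ⟨S', f, h1, h2, h3, hloc⟩ := hH
    refine ⟨S', f, h1, h2, h3, fun z => ?_⟩
    obtain ⟨U, hU, M, i, -, h⟩ := hloc z
    exact ⟨U, hU, M, i, h⟩
  haveI : IsClosedImmersion i.left := Transporter.isClosedImmersion_of_mono hmt hTa i
  haveI : IsClosedImmersion (T ◁ i).left :=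
    MorphismProperty.of_isPullback (FinHom.isPullback_whiskerLeft T i).flip ‹_›
  let sh : T ⊗ T ⟶ T ⊗ T := lift (fst T T) μ[T]
  let sh' : T ⊗ T ⟶ T ⊗ T := lift (fst T T) ((fst T T)⁻¹ * snd T T)
  have hμ : μ[T] = fst T T * snd T T := by
    rw [Hom.mul_def, lift_fst_snd, Category.id_comp]
  haveI : IsIso sh := ⟨sh', by
      ext1
      · rw [Category.assoc, lift_fst, lift_fst, Category.id_comp]
      · rw [Category.assoc, lift_snd, MonObj.comp_mul, GrpObj.comp_inv, lift_fst, lift_snd, hμ, inv_mul_cancel_left,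
          Category.id_comp], by
      ext1
      · rw [Category.assoc, lift_fst, lift_fst, Category.id_comp]
      · rw [Category.assoc, lift_snd, hμ, MonObj.comp_mul, lift_fst, lift_snd, mul_inv_cancel_left, Category.id_comp]⟩
  haveI : IsIso sh.left := ((Over.forget S).mapIso (asIso sh)).isIso_hom
  have hpair : IsClosedImmersion (lift (fst T H) ((T ◁ i) ≫ μ[T])).left := by
    rw [show lift (fst T H) ((T ◁ i) ≫ μ[T]) = (T ◁ i) ≫ sh by
      simp only [sh, comp_lift, whiskerLeft_fst], Over.comp_left]
    infer_instance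
  obtain ⟨t1, t2, t3⟩ := MonoQuot.fppf_tensor q q
  haveI := t1; haveI := t2; haveI := t3
  haveI : QuasiCompact (q ⊗ₘ q).left := by
    rw [MonoidalCategory.tensorHom_def, Over.comp_left]
    haveI := QuotRep.whiskerRight_left @QuasiCompact q T ‹_›
    haveI : QuasiCompact (Q ◁ q).left :=
      MorphismProperty.of_isPullback (P := @QuasiCompact) (FinHom.isPullback_whiskerLeft Q q).flip ‹_›
    infer_instance
  have hd : IsPullback (lift (fst T H) ((T ◁ i) ≫ μ[T])) (fst T H ≫ q) (q ⊗ₘ q) (lift (𝟙 Q) (𝟙 Q)) := by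
    refine ⟨⟨?_⟩, ⟨PullbackCone.IsLimit.mk _ (fun c => hsq.lift (c.fst ≫ fst T T) (c.fst ≫ snd T T) ?_)
      (fun c => ?_) (fun c => ?_) (fun c l h1 h2 => ?_)⟩⟩
    · ext1
      · rw [Category.assoc, tensorHom_fst, lift_fst_assoc, Category.assoc, lift_fst, Category.comp_id]
      · rw [Category.assoc, tensorHom_snd, lift_snd_assoc, Category.assoc (fst T H ≫ q), lift_snd, Category.comp_id]
        exact hsq.w.symm
    · have e1 := congrArg (· ≫ fst Q Q) c.condition
      have e2 := congrArg (· ≫ snd Q Q) c.condition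
      simp only [Category.assoc, tensorHom_fst, tensorHom_snd, lift_fst, lift_snd, Category.comp_id] at e1 e2 ⊢
      rw [e1, e2]
    · ext1
      · simp only [Category.assoc, lift_fst]
        exact hsq.lift_fst _ _ _
      · simp only [Category.assoc, lift_snd]
        exact hsq.lift_snd _ _ _
    · rw [IsPullback.lift_fst_assoc]
      have e1 := congrArg (· ≫ fst Q Q) c.condition
      simp only [Category.assoc, tensorHom_fst, lift_fst, Category.comp_id] at e1 ⊢
      exact e1
    · refine hsq.hom_ext ?_ ?_
      · rw [IsPullback.lift_fst, ← h1, Category.assoc, lift_fst]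
      · rw [IsPullback.lift_snd, ← h1, Category.assoc, lift_snd]
  haveI := Groth.Agent.S0083.result.{u}
  have hcl : IsClosedImmersion (lift (𝟙 Q) (𝟙 Q)).left :=
    MorphismProperty.of_isPullback_of_descendsAlong (P := @IsClosedImmersion)
      (Q := @Surjective ⊓ @Flat ⊓ @QuasiCompact) (hd.map (Over.forget S)) ⟨⟨t3, t1⟩, ‹_›⟩ hpair
  exact ⟨hcl⟩

/-- A mono out of the target of an fppf map through which a quotient map factors is an isomorphism. -/
theorem isIso_of_factor {T' : Over S} (q : T ⟶ Q) [Flat q.left] [LocallyOfFinitePresentation q.left]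
    [Surjective q.left] (p : T ⟶ T') (m : T' ⟶ Q) [Mono m] (h : p ≫ m = q) : IsIso m := by
  obtain ⟨s, hs⟩ := MonoQuot.exists_desc_over q p fun Y a b e => by
    rw [← cancel_mono m, Category.assoc, Category.assoc, h, e]
  haveI := MonoQuot.epi_over q
  have hsm : s ≫ m = 𝟙 Q := by rw [← cancel_epi q, reassoc_of% hs, h, Category.comp_id]
  exact ⟨s, by rw [← cancel_mono m, Category.assoc, hsm, Category.comp_id, Category.id_comp], hsm⟩

end Groth.Agent.ImgTorus
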